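import Groth.Agent.L21.NormRed.Algebra
import Groth.Agent.L21.NodeFrob.Alg
import Mathlib.RingTheory.Ideal.GoingUp
import Mathlib.RingTheory.Localization.Ideal
import Mathlib.RingTheory.Localization.Module
import Mathlib.Algebra.Module.LocalizedModule.IsLocalization
import Mathlib.RingTheory.Spectrum.Maximal.Basic

/-!
# Points of the normalization over a point and maximal ideals of the integral closure
-/

set_option autoImplicit false
set_option linter.style.haveILetI false
set_option backward.isDefEq.respectTransparency false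
set_option backward.isDefEq.respectTransparency.types false

universe u

noncomputable section

namespace Groth.L21.CurveTors

/-- The branches of a local ring only depend on its reduction. -/
theorem nonempty_maximalSpectrum_normRed_red (A : Type u) [CommRing A] :
    Nonempty (MaximalSpectrum (CAlg2.normRed A) ≃ MaximalSpectrum (CAlg2.normRed (CAlg2.red A))) := by
  haveI : IsReduced (CAlg2.red A) :=
    (Ideal.isRadical_iff_quotient_reduced _).1 (Ideal.radical_isRadical _)
  obtain ⟨e⟩ := Groth.L21.NodeFrob.exists_normRed_ringEquiv (CAlg2.red A)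
  refine ⟨⟨fun m => ⟨m.asIdeal.comap e.symm.toRingHom, ?_⟩, fun m => ⟨m.asIdeal.comap e.toRingHom, ?_⟩,
    fun m => MaximalSpectrum.ext (Ideal.ext fun a => ?_), fun m => MaximalSpectrum.ext (Ideal.ext fun a => ?_)⟩⟩
  · haveI := m.isMaximal
    exact Ideal.comap_isMaximal_of_equiv e.symm
  · haveI := m.isMaximal
    exact Ideal.comap_isMaximal_of_equiv e
  · show e.symm (e a) ∈ m.asIdeal ↔ _
    rw [RingEquiv.symm_apply_apply]
  · show e (e.symm a) ∈ m.asIdeal ↔ _
    rw [RingEquiv.apply_symm_apply]

variable {R B : Type u} [CommRing R] [CommRing B] [Algebra R B] [Module.Finite R B] (p : Ideal R) [p.IsPrime]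
  (A : Type u) [CommRing A] [Algebra R A] [IsLocalization.AtPrime A p] [IsLocalRing A]

/-- Maximal ideals of the normalised local ring are the primes over the point. -/
theorem nonempty_maximalSpectrum_integralClosure (f : R)
    (hfR : f ∈ nonZeroDivisors R) (hfB : algebraMap R B f ∈ nonZeroDivisors B)
    (hinj : Function.Injective (algebraMap R B))
    (hgen : ∀ b : B, ∃ (n : ℕ) (r : R), algebraMap R B f ^ n * b = algebraMap R B r)
    (hnorm : ∀ (Q : Ideal B) [Q.IsPrime], IsDomain (Localization.AtPrime Q) ∧
      IsIntegrallyClosed (Localization.AtPrime Q)) :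
    Nonempty (MaximalSpectrum (integralClosure A (FractionRing A)) ≃
      {Q : PrimeSpectrum B // Q.asIdeal.comap (algebraMap R B) = p}) := by
  classical
  obtain ⟨ι, hι, hι1⟩ := Groth.L21.NormRed.exists_isLocalizedModule_integralClosure p A f hfR hfB hinj hgen hnorm
  let N := integralClosure A (FractionRing A)
  have hreg : IsUnit (algebraMap R (FractionRing A) f) := by
    rw [IsScalarTower.algebraMap_apply R A]
    exact IsLocalization.map_units (FractionRing A) (⟨algebraMap R A f,
      IsLocalization.map_nonZeroDivisors_le p.primeCompl A ⟨f, hfR, rfl⟩⟩ : nonZeroDivisors A)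
  have hr : ∀ r, ι (algebraMap R B r) = algebraMap R N r := fun r => by
    rw [Algebra.algebraMap_eq_smul_one, map_smul, hι1, ← Algebra.algebraMap_eq_smul_one]
  have hmul : ∀ b b', ι (b * b') = ι b * ι b' := fun b b' => by
    obtain ⟨n, r, hn⟩ := hgen b
    have h1 : (f ^ n) • b = algebraMap R B r := by rw [Algebra.smul_def, map_pow, hn]
    have h2 : (f ^ n) • ι (b * b') = (f ^ n) • (ι b * ι b') := by
      have e1 : (f ^ n) • ι (b * b') = r • ι b' := by
        rw [← map_smul, ← smul_mul_assoc, h1, ← Algebra.smul_def, map_smul]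
      have e2 : (f ^ n) • (ι b * ι b') = r • ι b' := by
        rw [← smul_mul_assoc, show (f ^ n) • ι b = algebraMap R N r from
          (map_smul ι _ _).symm.trans ((congrArg ι h1).trans (hr r)), ← Algebra.smul_def]
      exact e1.trans e2.symm
    have h3 := congrArg (Subtype.val : N → FractionRing A) h2
    have h4 : ∀ z : N, ((f ^ n) • z : N).1 = algebraMap R (FractionRing A) f ^ n * z.1 := fun z => by
      rw [← map_pow, ← Algebra.smul_def]
      rfl
    rw [h4, h4] at h3
    exact Subtype.ext ((hreg.pow n).mul_left_cancel h3)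
  let φ : B →ₐ[R] N := AlgHom.ofLinearMap ι hι1 hmul
  letI : Algebra B N := φ.toRingHom.toAlgebra
  haveI : IsScalarTower R B N := IsScalarTower.of_algebraMap_eq fun r => (φ.commutes r).symm
  haveI : IsLocalization (Algebra.algebraMapSubmonoid B p.primeCompl) N :=
    (isLocalizedModule_iff_isLocalization (S := p.primeCompl) (A := B) (Aₛ := N)).1
      (by
        have h : (IsScalarTower.toAlgHom R B N).toLinearMap = ι := LinearMap.ext fun b => rfl
        rw [h]
        exact hι)
  let o := IsLocalization.orderIsoOfPrime (Algebra.algebraMapSubmonoid B p.primeCompl) N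
  haveI : Algebra.IsIntegral R B := Algebra.IsIntegral.of_finite R B
  have hdisj : ∀ Q : Ideal B, Disjoint (Algebra.algebraMapSubmonoid B p.primeCompl : Set B) (Q : Set B) ↔
      Q.comap (algebraMap R B) ≤ p := fun Q => by
    refine ⟨fun h x hx => ?_, fun h => Set.disjoint_left.2 ?_⟩
    · by_contra hxp
      exact Set.disjoint_left.1 h ⟨x, hxp, rfl⟩ hx
    · rintro _ ⟨x, hxp, rfl⟩ hx
      exact hxp (h hx)
  -- maximal ideals of the localisation lie over `p`
  have hover : ∀ M : MaximalSpectrum N, (M.asIdeal.comap (algebraMap B N)).comap (algebraMap R B) = p := fun M => by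
    haveI := M.isMaximal
    haveI : Algebra.IsIntegral A N := inferInstance
    have h1 : M.asIdeal.comap (algebraMap A N) = IsLocalRing.maximalIdeal A :=
      IsLocalRing.eq_maximalIdeal (Ideal.isMaximal_comap_of_isIntegral_of_isMaximal M.asIdeal)
    rw [Ideal.comap_comap, ← IsScalarTower.algebraMap_eq, IsScalarTower.algebraMap_eq R A N, ← Ideal.comap_comap, h1]
    exact IsLocalization.AtPrime.comap_maximalIdeal A p
  have hmax : ∀ Q : PrimeSpectrum B, ∀ hQ : Q.asIdeal.comap (algebraMap R B) = p,
      (o.symm ⟨Q.asIdeal, Q.isPrime, (hdisj _).2 hQ.le⟩).1.IsMaximal := fun Q hQ => by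
    set M := o.symm ⟨Q.asIdeal, Q.isPrime, (hdisj _).2 hQ.le⟩ with hM
    haveI : M.1.IsPrime := M.2
    haveI : Algebra.IsIntegral A N := inferInstance
    have h0 : M.1.comap (algebraMap B N) = Q.asIdeal := congrArg Subtype.val (o.apply_symm_apply _)
    refine Ideal.isMaximal_of_isIntegral_of_isMaximal_comap (R := A) M.1 ?_
    have h1 : (M.1.comap (algebraMap A N)).comap (algebraMap R A) = p := by
      rw [Ideal.comap_comap, ← IsScalarTower.algebraMap_eq, IsScalarTower.algebraMap_eq R B N, ← Ideal.comap_comap,
        h0, hQ]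
    have h2 : M.1.comap (algebraMap A N) = IsLocalRing.maximalIdeal A := by
      haveI : (M.1.comap (algebraMap A N)).IsPrime := Ideal.IsPrime.comap _
      refine le_antisymm (IsLocalRing.le_maximalIdeal Ideal.IsPrime.ne_top') ?_
      rw [← IsLocalization.map_comap p.primeCompl A (IsLocalRing.maximalIdeal A),
        IsLocalization.AtPrime.comap_maximalIdeal A p]
      conv_lhs => rw [← h1]
      exact Ideal.map_comap_le
    rw [h2]
    infer_instance
  exact ⟨{ toFun := fun M => ⟨⟨M.asIdeal.comap (algebraMap B N),
              haveI := M.isMaximal; Ideal.IsPrime.comap _⟩, hover M⟩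
           invFun := fun Q => ⟨_, hmax Q.1 Q.2⟩
           left_inv := fun M => MaximalSpectrum.ext
             (congrArg Subtype.val (o.symm_apply_apply ⟨M.asIdeal, M.isMaximal.isPrime⟩))
           right_inv := fun Q => Subtype.ext (PrimeSpectrum.ext
             (congrArg Subtype.val (o.apply_symm_apply ⟨Q.1.asIdeal, Q.1.isPrime, (hdisj _).2 Q.2.le⟩))) }⟩

end Groth.L21.CurveTors
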