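import Groth.Agent.L21.CurveTors.BranchAlg
import Groth.Agent.L21.NormRed.BiratOpen
import Groth.Agent.L21.NormRed.Coker
import Groth.Agent.L07.LengthBC
import Groth.Agent.L23.BranchHens
import Groth.Prelude.Def_Brnch

/-!
# Branches of a possibly nonreduced scheme and the fibres of its normalization
-/

set_option autoImplicit false
set_option linter.style.haveILetI false
set_option linter.unusedSectionVars false
set_option backward.isDefEq.respectTransparency false
set_option backward.isDefEq.respectTransparency.types false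

universe u

open CategoryTheory CategoryTheory.Limits AlgebraicGeometry TopologicalSpace

noncomputable section

namespace Groth.L21.CurveTors

variable {X X' : Scheme.{u}} [IsLocallyNoetherian X] (π : X' ⟶ X) [IsFinite π] (hX' : Pi1.IsNormalScheme X')

set_option maxHeartbeats 1000000 in
include hX' in
/-- For a reduced scheme the branches at a point are the points of the normalization over it. -/
theorem numBranchesAt_of_isReduced [IsReduced X] {U : X.Opens} (hU : Dense (U : Set X))
    (hU' : Dense ((π ⁻¹ᵁ U : X'.Opens) : Set X')) [IsIso (π ∣_ U)] (x : X) :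
    Brnch.numBranchesAt X x = ENat.card {y : X' // π y = x} := by
  classical
  obtain ⟨V, hV, hxV, -⟩ := exists_isAffineOpen_mem_and_subset (TopologicalSpace.Opens.mem_top x)
  obtain ⟨f, hfU, hfR, hfB⟩ := Groth.L21.NormRed.exists_regular π hX' hU hU' hV
  letI algAB : Algebra Γ(X, V) Γ(X', π ⁻¹ᵁ V) := (π.app V).hom.toAlgebra
  haveI : Module.Finite Γ(X, V) Γ(X', π ⁻¹ᵁ V) := π.finite_app V hV
  have hV' : IsAffineOpen (π ⁻¹ᵁ V) := hV.preimage π
  let p := (hV.primeIdealOf ⟨x, hxV⟩).asIdeal
  letI algAO : Algebra Γ(X, V) (X.presheaf.stalk x) :=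
    TopCat.Presheaf.algebra_section_stalk X.presheaf ⟨x, hxV⟩
  haveI hlocO : IsLocalization.AtPrime (X.presheaf.stalk x) p := hV.isLocalization_stalk ⟨x, hxV⟩
  have hnorm : ∀ (Q : Ideal Γ(X', π ⁻¹ᵁ V)) [Q.IsPrime], IsDomain (Localization.AtPrime Q) ∧
      IsIntegrallyClosed (Localization.AtPrime Q) := fun Q _ => by
    have hy : hV'.fromSpec ⟨Q, inferInstance⟩ ∈ π ⁻¹ᵁ V := by
      show _ ∈ ((π ⁻¹ᵁ V : X'.Opens) : Set X')
      rw [← hV'.range_fromSpec]; exact ⟨_, rfl⟩
    letI := TopCat.Presheaf.algebra_section_stalk X'.presheaf ⟨_, hy⟩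
    haveI : IsLocalization Q.primeCompl (X'.presheaf.stalk (hV'.fromSpec ⟨Q, inferInstance⟩)) :=
      hV'.isLocalization_stalk' ⟨Q, inferInstance⟩ hy
    let e := (IsLocalization.algEquiv Q.primeCompl (X'.presheaf.stalk (hV'.fromSpec ⟨Q, inferInstance⟩))
      (Localization.AtPrime Q)).toRingEquiv
    obtain ⟨h1, h2⟩ := hX' (hV'.fromSpec ⟨Q, inferInstance⟩)
    exact ⟨e.symm.toMulEquiv.isDomain, IsIntegrallyClosed.of_equiv e⟩
  obtain ⟨eN⟩ := Groth.L21.CurveTors.nonempty_maximalSpectrum_integralClosure p (X.presheaf.stalk x) f hfR hfB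
    (Groth.L21.NormRed.app_injective π hU V) (Groth.L21.NormRed.exists_pow_mul_eq π hV f hfU hfB) hnorm
  obtain ⟨e⟩ := Groth.L21.NodeFrob.exists_normRed_ringEquiv (X.presheaf.stalk x)
  let eM : MaximalSpectrum (CAlg2.normRed (X.presheaf.stalk x)) ≃
      MaximalSpectrum (integralClosure (X.presheaf.stalk x) (FractionRing (X.presheaf.stalk x))) :=
    { toFun := fun m => ⟨m.asIdeal.comap e.toRingHom, by haveI := m.isMaximal; exact Ideal.comap_isMaximal_of_equiv e⟩
      invFun := fun m => ⟨m.asIdeal.comap e.symm.toRingHom, by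
        haveI := m.isMaximal; exact Ideal.comap_isMaximal_of_equiv e.symm⟩
      left_inv := fun m => MaximalSpectrum.ext (Ideal.ext fun a => by
        show e (e.symm a) ∈ m.asIdeal ↔ _
        rw [RingEquiv.apply_symm_apply])
      right_inv := fun m => MaximalSpectrum.ext (Ideal.ext fun a => by
        show e.symm (e a) ∈ m.asIdeal ↔ _
        rw [RingEquiv.symm_apply_apply]) }
  have hcomp : ∀ Q : PrimeSpectrum Γ(X', π ⁻¹ᵁ V),
      π (hV'.fromSpec Q) = hV.fromSpec ⟨Q.asIdeal.comap (π.app V).hom, Ideal.comap_isPrime _ _⟩ := fun Q => by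
    have h2 := congr($(IsAffineOpen.SpecMap_appLE_fromSpec π hV hV' le_rfl) Q)
    rw [Scheme.Hom.comp_apply, Scheme.Hom.comp_apply, ← Scheme.Hom.app_eq_appLE] at h2
    exact h2.symm
  have hinjS : Function.Injective hV'.fromSpec := hV'.fromSpec.isOpenEmbedding.injective
  let eP : {Q : PrimeSpectrum Γ(X', π ⁻¹ᵁ V) // Q.asIdeal.comap (algebraMap Γ(X, V) Γ(X', π ⁻¹ᵁ V)) = p} ≃
      {y : X' // π y = x} := Equiv.ofBijective
    (fun Q => ⟨hV'.fromSpec Q.1, (hcomp Q.1).trans (((congrArg hV.fromSpec (PrimeSpectrum.ext Q.2)).trans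
      (hV.fromSpec_primeIdealOf ⟨x, hxV⟩)))⟩)
    ⟨fun a b h => Subtype.ext (hinjS (congrArg (fun z : {y : X' // π y = x} => z.1) h)), fun y => by
      have hy : y.1 ∈ π ⁻¹ᵁ V := show π y.1 ∈ V from y.2.symm ▸ hxV
      refine ⟨⟨hV'.primeIdealOf ⟨y.1, hy⟩, ?_⟩, Subtype.ext (hV'.fromSpec_primeIdealOf ⟨y.1, hy⟩)⟩
      have h := hcomp (hV'.primeIdealOf ⟨y.1, hy⟩)
      rw [hV'.fromSpec_primeIdealOf ⟨y.1, hy⟩, y.2] at h
      exact (congrArg PrimeSpectrum.asIdeal (hV.fromSpec.isOpenEmbedding.injective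
        ((hV.fromSpec_primeIdealOf ⟨x, hxV⟩).trans h))).symm⟩
  haveI : IsNoetherianRing (X.presheaf.stalk x) := inferInstance
  rw [Brnch.numBranchesAt, Brnch.numBranches,
    if_pos ((⊥ : Ideal (X.presheaf.stalk x)).finite_minimalPrimes_of_isNoetherianRing _)]
  exact ENat.card_congr (eM.trans (eN.trans eP))

omit [IsLocallyNoetherian X] in
/-- Morphisms from reduced schemes factor through the reduction. -/
theorem nilradical_le_ker [IsReduced X'] : X.nilradical ≤ π.ker := fun V a ha => by
  rw [Scheme.Hom.ker_apply, RingHom.mem_ker]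
  have hid : X.nilradical.ideal V = nilradical Γ(X, V.1) := by
    rw [← Scheme.IdealSheafData.radical_bot]
    rfl
  rw [hid] at ha
  exact IsNilpotent.eq_zero ((mem_nilradical.1 ha).map (π.app V.1).hom)

/-- The reduction does not change the number of branches. -/
theorem numBranchesAt_subschemeι (z : X.nilradical.subscheme) :
    Brnch.numBranchesAt X (X.nilradical.subschemeι z) = Brnch.numBranchesAt X.nilradical.subscheme z := by
  let ι := X.nilradical.subschemeι
  haveI : IsReduced X.nilradical.subscheme := Groth.L07.LengthBC.isReduced_nilradical_subscheme X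
  let A := X.presheaf.stalk (ι z)
  haveI : IsLocallyNoetherian X.nilradical.subscheme := LocallyOfFiniteType.isLocallyNoetherian ι
  have hker : RingHom.ker (ι.stalkMap z).hom = nilradical A := by
    rw [Groth.L20.Infinitesimal.ker_stalkMap, Scheme.IdealSheafData.ker_subschemeι,
      Groth.L07.LengthBC.sI_nilradical]
  let e : CAlg2.red A ≃+* X.nilradical.subscheme.presheaf.stalk z :=
    (Ideal.quotEquivOfEq hker.symm).trans (RingHom.quotientKerEquivOfSurjective (ι.stalkMap_surjective z))
  haveI : IsLocalRing (CAlg2.red A) := e.symm.isLocalRing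
  haveI : IsNoetherianRing (X.presheaf.stalk (ι z)) := inferInstance
  obtain ⟨eM⟩ := nonempty_maximalSpectrum_normRed_red A
  show Brnch.numBranches A = Brnch.numBranches (X.nilradical.subscheme.presheaf.stalk z)
  rw [← Groth.L23.Branch.numBranches_ringEquiv e, Brnch.numBranches, Brnch.numBranches,
    if_pos ((⊥ : Ideal A).finite_minimalPrimes_of_isNoetherianRing _),
    if_pos ((⊥ : Ideal (CAlg2.red A)).finite_minimalPrimes_of_isNoetherianRing _)]
  exact ENat.card_congr eM

variable (hbij : Set.BijOn (fun x' : X' => π x') (genericPoints X') (genericPoints X))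
  (hres : ∀ x' ∈ genericPoints X', Function.Bijective (π.residueFieldMap x').hom)

include hX' hbij hres in
/-- The branches at a point are the points of the normalization over it, which are single points over a
dense open. -/
theorem exists_dense_branches : ∃ U : X.Opens, Dense (U : Set X) ∧ Surjective π ∧
    (∀ x ∈ U, Nat.card {y : X' // π y = x} = 1) ∧
    ∀ x : X, (Brnch.numBranchesAt X x).toNat = Nat.card {y : X' // π y = x} := by
  classical
  haveI := Groth.L21.NormRed.isReduced_of_normal hX'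
  let ι := X.nilradical.subschemeι
  haveI : IsReduced X.nilradical.subscheme := Groth.L07.LengthBC.isReduced_nilradical_subscheme X
  haveI : IsLocallyNoetherian X.nilradical.subscheme := LocallyOfFiniteType.isLocallyNoetherian ι
  let π₀ : X' ⟶ X.nilradical.subscheme := IsClosedImmersion.lift ι π (by
    rw [Scheme.IdealSheafData.ker_subschemeι]
    exact nilradical_le_ker π)
  have hπ₀ : π₀ ≫ ι = π := IsClosedImmersion.lift_fac _ _ _
  haveI : IsFinite (π₀ ≫ ι) := hπ₀.symm ▸ inferInstance
  haveI : IsFinite π₀ := IsFinite.of_comp π₀ ι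
  haveI : Surjective ι := ⟨fun x => by
    have h : x ∈ Set.range ι.base := by
      rw [Scheme.IdealSheafData.range_subschemeι, ← Scheme.IdealSheafData.radical_bot,
        Scheme.IdealSheafData.support_radical, Scheme.IdealSheafData.support_bot]
      trivial
    exact h⟩
  have hap : ∀ y, ι (π₀ y) = π y := fun y => by rw [← Scheme.Hom.comp_apply, hπ₀]
  have hgen : ∀ z : X.nilradical.subscheme, z ∈ genericPoints X.nilradical.subscheme ↔ ι z ∈ genericPoints X := by
    intro z
    rw [Groth.L20.mem_genericPoints_iff, Groth.L20.mem_genericPoints_iff]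
    refine ⟨fun h w hw => ?_, fun h w hw => ι.isEmbedding.injective (h _ (hw.map ι.continuous))⟩
    obtain ⟨v, rfl⟩ := ι.surjective w
    exact congrArg ι (h v (ι.isEmbedding.isInducing.specializes_iff.1 hw))
  have hbij₀ : Set.BijOn (fun x' : X' => π₀ x') (genericPoints X') (genericPoints X.nilradical.subscheme) := by
    refine ⟨fun y hy => (hgen _).2 ((hap y).symm ▸ hbij.mapsTo hy), fun a ha b hb e => hbij.injOn ha hb ?_,
      fun z hz => ?_⟩
    · show π a = π b
      rw [← hap, ← hap]
      exact congrArg ι e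
    · obtain ⟨y, hy, hye⟩ := hbij.surjOn ((hgen z).1 hz)
      exact ⟨y, hy, ι.isEmbedding.injective ((hap y).trans hye)⟩
  have hres₀ : ∀ x' ∈ genericPoints X', Function.Bijective (π₀.residueFieldMap x').hom := fun y hy => by
    have aux : ∀ g : X' ⟶ X, g = π₀ ≫ ι → Function.Bijective (g.residueFieldMap y).hom →
        Function.Bijective ((π₀ ≫ ι).residueFieldMap y).hom := by
      rintro g rfl hg
      exact hg
    have h := aux π hπ₀.symm (hres y hy)
    rw [Scheme.residueFieldMap_comp] at h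
    refine ⟨(π₀.residueFieldMap y).hom.injective, fun a => ?_⟩
    obtain ⟨b, hb⟩ := h.2 a
    exact ⟨_, hb⟩
  obtain ⟨U₀, hU₀, hU₀', hiso⟩ := Groth.L21.NormRed.exists_dense_isIso π₀ hbij₀ hres₀
  haveI := hiso
  have hfib : ∀ z, Nonempty ({y : X' // π₀ y = z} ≃ {y : X' // π y = ι z}) := fun z =>
    ⟨Equiv.subtypeEquivRight fun y => ⟨fun h => (hap y).symm.trans (congrArg ι h),
      fun h => ι.isEmbedding.injective ((hap y).trans h)⟩⟩
  haveI : Surjective π₀ := ⟨fun z => by
    have hcl : IsClosed (Set.range π₀) := π₀.isClosedMap.isClosed_range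
    have hsub : (U₀ : Set X.nilradical.subscheme) ⊆ Set.range π₀ := fun w hw => by
      obtain ⟨v, hv⟩ := (ConcreteCategory.bijective_of_isIso (π₀ ∣_ U₀).base).2 ⟨w, hw⟩
      exact ⟨v.1, (morphismRestrict_base_coe π₀ U₀ v).symm.trans (congrArg Subtype.val hv)⟩
    exact (closure_minimal hsub hcl) (hU₀ z)⟩
  refine ⟨⟨ι '' (U₀ : Set X.nilradical.subscheme), ?_⟩, ?_, hπ₀ ▸ inferInstance, ?_, fun x => ?_⟩
  · rw [← compl_compl (U₀ : Set X.nilradical.subscheme), Set.image_compl_eq ⟨ι.isEmbedding.injective, ι.surjective⟩]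
    exact (ι.isClosedMap _ U₀.isOpen.isClosed_compl).isOpen_compl
  · exact ι.surjective.denseRange.dense_image ι.continuous hU₀
  · rintro _ ⟨z, hz, rfl⟩
    obtain ⟨e⟩ := hfib z
    rw [← Nat.card_congr e, Nat.card_eq_one_iff_exists]
    obtain ⟨v, hv⟩ := (ConcreteCategory.bijective_of_isIso (π₀ ∣_ U₀).base).2 ⟨z, hz⟩
    refine ⟨⟨v.1, (morphismRestrict_base_coe π₀ U₀ v).symm.trans (congrArg Subtype.val hv)⟩, fun w => Subtype.ext ?_⟩
    have hw : w.1 ∈ π₀ ⁻¹ᵁ U₀ := show π₀ w.1 ∈ U₀ from w.2.symm ▸ hz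
    refine show w.1 = v.1 from Subtype.ext_iff.1 ((ConcreteCategory.bijective_of_isIso (π₀ ∣_ U₀).base).1
      (a₁ := ⟨w.1, hw⟩) (a₂ := v) ?_)
    rw [hv]
    exact Subtype.ext ((morphismRestrict_base_coe π₀ U₀ ⟨w.1, hw⟩).trans w.2)
  · obtain ⟨z, rfl⟩ := ι.surjective x
    obtain ⟨e⟩ := hfib z
    rw [numBranchesAt_subschemeι, numBranchesAt_of_isReduced π₀ hX' hU₀ hU₀', ← Nat.card_congr e]
    rfl

end Groth.L21.CurveTors
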