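import Groth.Agent.L21.RR.BirationalGenus
import Groth.Agent.L00.StalkFunctor
import Groth.Agent.L21.RR.Equality
import Groth.Agent.L28.DivGen.Components

/-!
# The genus of a disjoint union
-/

set_option autoImplicit false
set_option linter.style.haveILetI false
set_option linter.unusedSectionVars false
set_option backward.isDefEq.respectTransparency false
set_option backward.isDefEq.respectTransparency.types false

universe u

open CategoryTheory CategoryTheory.Limits AlgebraicGeometry TopologicalSpace Opposite

noncomputable section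

namespace Groth.L21.CurveTors

open Groth.L21.RR (h st st_germ hmap_zero)
open Groth.L16.CohLinear (hmap hmap_comp hmap_id overLin)

/-- Cohomology of a finite sum of modules. -/
theorem h_biproduct {k : Type u} [Field k] {X : Scheme.{u}} [X.Over (Spec (CommRingCat.of k))]
    [IsProper (X ↘ Spec (CommRingCat.of k))] {ι : Type u} [Fintype ι] (G : ι → X.Modules) [HasBiproduct G]
    (hG : ∀ i, Coh.IsCoh (G i)) (p : ℕ) : h k p (⨁ G) = ∑ i, h k p (G i) := by
  classical
  let f : Coh.HH X (⨁ G) p →ₗ[k] ((i : ι) → Coh.HH X (G i) p) :=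
    LinearMap.pi fun i => Groth.L21.RR.hk k (biproduct.π G i) p
  let g : ((i : ι) → Coh.HH X (G i) p) →ₗ[k] Coh.HH X (⨁ G) p :=
    ∑ i, (Groth.L21.RR.hk k (biproduct.ι G i) p).comp (LinearMap.proj i)
  have hfg : f.comp g = LinearMap.id := by
    refine LinearMap.ext fun x => funext fun m => ?_
    show hmap _ p (g x) = x m
    simp only [g, LinearMap.coe_sum, Finset.sum_apply, LinearMap.coe_comp, Function.comp_apply, LinearMap.proj_apply]
    rw [map_sum, Finset.sum_eq_single m]
    · refine (hmap_comp _ _ p (x m)).symm.trans ?_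
      rw [biproduct.ι_π_self]
      exact hmap_id p (x m)
    · intro l _ hl
      refine (hmap_comp _ _ p (x l)).symm.trans ?_
      rw [biproduct.ι_π_ne _ hl]
      exact hmap_zero _ _ p (x l)
    · exact fun hm => (hm (Finset.mem_univ m)).elim
  have hgf : g.comp f = LinearMap.id := by
    refine LinearMap.ext fun x => ?_
    show g (f x) = x
    simp only [g, f, LinearMap.coe_sum, Finset.sum_apply, LinearMap.coe_comp, Function.comp_apply,
      LinearMap.proj_apply, LinearMap.pi_apply]
    refine Eq.trans ?_ ((congrArg (fun F => hmap F p x)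
      (show ∑ j, biproduct.π G j ≫ biproduct.ι G j = 𝟙 (⨁ G) from IsBilimit.total (biproduct.isBilimit G))).trans (hmap_id p x))
    rw [Groth.L21.RR.hmap_sum']
    exact Finset.sum_congr rfl fun l _ => (hmap_comp _ _ p x).symm
  haveI : ∀ i, Module.Finite k (Coh.HH X (G i) p) := fun i => Groth.L21.RR.finite_HH' k (hG i) p
  show Module.finrank k (Coh.HH X (⨁ G) p) = _
  rw [(LinearEquiv.ofLinearMap f g hfg hgf).finrank_eq, Module.finrank_pi_fintype]

variable {X : Scheme.{u}} (U : X.Opens)

/-- Functions on a small neighbourhood of a point of an open are functions on the open. -/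
theorem bijective_st_unitToPush {x : X} (hx : x ∈ U) : Function.Bijective (st (ClSub.unitToPush U.ι) x) := by
  have happ : ∀ V : X.Opens, V ≤ U → Function.Bijective (U.ι.app V).hom := fun V hV => by
    haveI : IsIso (U.ι.app V) := U.ι.isIso_app V (by rw [Scheme.Opens.opensRange_ι]; exact hV)
    exact ConcreteCategory.bijective_of_isIso (U.ι.app V)
  refine ⟨(injective_iff_map_eq_zero _).2 fun v hv => ?_, fun v => ?_⟩
  · obtain ⟨W, hxW, a, rfl⟩ := TopCat.Presheaf.exists_germ_eq (Coh.structureModule X).presheaf v
    rw [st_germ] at hv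
    obtain ⟨W', hxW', i, i', he⟩ := TopCat.Presheaf.germ_eq
      ((Scheme.Modules.pushforward U.ι).obj (Coh.structureModule (U : Scheme.{u}))).presheaf x hxW hxW _ 0
      (hv.trans (map_zero _).symm)
    rw [map_zero] at he
    have h1 : (U.ι.app (W' ⊓ U)).hom ((X.presheaf.map (homOfLE ((inf_le_left : W' ⊓ U ≤ W').trans i.le)).op).hom a) = 0 := by
      have hn := fun s => congr($(U.ι.naturality (homOfLE ((inf_le_left : W' ⊓ U ≤ W').trans i.le)).op) s)
      refine (hn a).trans ?_
      let r := ((Scheme.Modules.pushforward U.ι).obj (Coh.structureModule (U : Scheme.{u}))).presheaf.map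
        (homOfLE (inf_le_left : W' ⊓ U ≤ W')).op
      have h2 := congrArg r he
      rw [map_zero, ← ConcreteCategory.comp_apply, ← Functor.map_comp] at h2
      exact h2
    have h3 := (happ _ inf_le_right).1 (h1.trans (map_zero _).symm)
    refine ((TopCat.Presheaf.germ_res_apply (Coh.structureModule X).presheaf
      (homOfLE ((inf_le_left : W' ⊓ U ≤ W').trans i.le)) x ⟨hxW', hx⟩ a).symm.trans (congrArg _ h3)).trans ?_
    exact map_zero _
  · obtain ⟨W, hxW, t, rfl⟩ := TopCat.Presheaf.exists_germ_eq
      ((Scheme.Modules.pushforward U.ι).obj (Coh.structureModule (U : Scheme.{u}))).presheaf v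
    obtain ⟨a, ha⟩ := (happ (W ⊓ U) inf_le_right).2 (Groth.L18.Frame.rs _ inf_le_left t)
    refine ⟨(Coh.structureModule X).presheaf.germ (W ⊓ U) x ⟨hxW, hx⟩ a, ?_⟩
    rw [st_germ, ← Groth.L20.ModStalk.germ_rs (M := (Scheme.Modules.pushforward U.ι).obj
      (Coh.structureModule (U : Scheme.{u}))) inf_le_left ⟨hxW, hx⟩ t]
    exact congrArg _ ha

/-- Outside a clopen the direct image of its functions vanishes. -/
theorem subsingleton_stalk_push (hU : IsClosed (U : Set X)) {x : X} (hx : x ∉ U) :
    Subsingleton (((Scheme.Modules.pushforward U.ι).obj (Coh.structureModule (U : Scheme.{u}))).presheaf.stalk x) := by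
  refine subsingleton_of_forall_eq 0 fun v => ?_
  let P := ((Scheme.Modules.pushforward U.ι).obj (Coh.structureModule (U : Scheme.{u}))).presheaf
  obtain ⟨W, hxW, t, rfl⟩ := TopCat.Presheaf.exists_germ_eq P v
  let W' : X.Opens := W ⊓ ⟨(U : Set X)ᶜ, hU.isOpen_compl⟩
  rw [← TopCat.Presheaf.germ_res_apply P (homOfLE (inf_le_left : W' ≤ W)) x ⟨hxW, hx⟩ t]
  have he : U.ι ⁻¹ᵁ W' = ⊥ := Opens.ext (Set.eq_empty_iff_forall_notMem.2 fun z hz => hz.2 z.2)
  haveI : Subsingleton Γ((U : Scheme.{u}), U.ι ⁻¹ᵁ W') := by
    rw [he]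
    infer_instance
  exact (congrArg _ (Subsingleton.elim (α := Γ((U : Scheme.{u}), U.ι ⁻¹ᵁ W')) _ 0)).trans (map_zero _)

variable [AlgebraicGeometry.IsNoetherian X] (hdom : ∀ x : X, IsDomain (X.presheaf.stalk x))
  (k : Type u) [Field k] [X.Over (Spec (CommRingCat.of k))] [IsProper (X ↘ Spec (CommRingCat.of k))]

open Groth.L28.DivGen (compOpen isClosedImmersion_compOpen)

include hdom in
/-- The genus of a disjoint union of integral schemes. -/
theorem genus_eq_sum [Fintype (irreducibleComponents (X : Type u))] :
    Curv2.genus k X = ∑ Z : irreducibleComponents (X : Type u),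
      (letI : (compOpen hdom Z : Scheme.{u}).Over (Spec (CommRingCat.of k)) :=
        ⟨(compOpen hdom Z).ι ≫ (X ↘ Spec (CommRingCat.of k))⟩
       Curv2.genus k (compOpen hdom Z : Scheme.{u})) := by
  classical
  let G : irreducibleComponents (X : Type u) → X.Modules := fun Z =>
    (Scheme.Modules.pushforward (compOpen hdom Z).ι).obj (Coh.structureModule (compOpen hdom Z : Scheme.{u}))
  haveI : HasFiniteBiproducts X.Modules := Abelian.hasFiniteBiproducts
  haveI : HasBiproduct G := HasBiproductsOfShape.has_biproduct _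
  let φ : Coh.structureModule X ⟶ ⨁ G := biproduct.lift fun Z => ClSub.unitToPush (compOpen hdom Z).ι
  have key : ∀ x, IsIso ((Groth.L00.Stk.F X x).map φ) := fun x => by
    let S := Groth.L00.Stk.F X x
    let Z₀ : irreducibleComponents (X : Type u) := ⟨irreducibleComponent x, irreducibleComponent_mem_irreducibleComponents x⟩
    have hother : ∀ Z, Z ≠ Z₀ → IsZero (S.obj (G Z)) := fun Z hne => by
      have hx : x ∉ compOpen hdom Z := fun hx => hne (Subtype.ext (by
        haveI := hdom x
        exact Groth.L21.NormalTotal.eq_of_mem_irreducibleComponents x Z.2 Z₀.2 hx mem_irreducibleComponent))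
      haveI : Subsingleton (S.obj (G Z)) := subsingleton_stalk_push _ (isClosed_of_mem_irreducibleComponents _ Z.2) hx
      exact ModuleCat.isZero_of_subsingleton _
    haveI : S.Additive := Functor.additive_of_preserves_binary_products _
    haveI : IsIso (S.map (biproduct.π G Z₀)) := by
      refine ⟨S.map (biproduct.ι G Z₀), ?_, by
        rw [← Functor.map_comp, biproduct.ι_π_self]; exact CategoryTheory.Functor.map_id _ _⟩
      rw [← Functor.map_comp, ← CategoryTheory.Functor.map_id, ← (show ∑ j, biproduct.π G j ≫ biproduct.ι G j = 𝟙 (⨁ G) from IsBilimit.total (biproduct.isBilimit G)), Functor.map_sum,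
        Finset.sum_eq_single Z₀]
      · intro Z _ hne
        rw [Functor.map_comp, (hother Z hne).eq_of_tgt (S.map (biproduct.π G Z)) 0, zero_comp]
      · exact fun h => absurd (Finset.mem_univ _) h
    haveI : IsIso (S.map φ ≫ S.map (biproduct.π G Z₀)) := by
      rw [← Functor.map_comp, biproduct.lift_π]
      exact (ConcreteCategory.isIso_iff_bijective _).2
        (bijective_st_unitToPush (compOpen hdom Z₀) (mem_irreducibleComponent : x ∈ irreducibleComponent x))
    exact IsIso.of_isIso_comp_right _ (S.map (biproduct.π G Z₀))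
  haveI : IsIso φ := (Groth.L21.Mod.isIso_iff_stalk_bijective φ).2 fun x => by
    haveI := key x
    exact ConcreteCategory.bijective_of_isIso ((Groth.L00.Stk.F X x).map φ)
  show h k 1 (Coh.structureModule X) = _
  rw [Groth.L21.RR.h_congr k (asIso φ) 1]
  haveI := fun Z => isClosedImmersion_compOpen hdom Z
  rw [h_biproduct (k := k) G (fun Z => Groth.L21.RR.isCoh_push_structure (compOpen hdom Z).ι) 1]
  refine Finset.sum_congr rfl fun Z _ => ?_
  letI : (compOpen hdom Z : Scheme.{u}).Over (Spec (CommRingCat.of k)) :=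
    ⟨(compOpen hdom Z).ι ≫ (X ↘ Spec (CommRingCat.of k))⟩
  exact Groth.L21.RR.h_push_structure (compOpen hdom Z).ι k rfl 1

end Groth.L21.CurveTors
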