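import Groth.Agent.L21.CurveTors.Clopen
import Groth.Agent.L21.CurveExt.Normal
import Groth.Agent.L21.CurveExt.NodeCoh
import Groth.Agent.L21.CurveKummer.Main
import Groth.Agent.L21.AffCd.Completion
import Groth.Agent.L21.AffCd.Birational
import Groth.Agent.L27.EtSite.HofPush

/-!
# Cohomology of a possibly disconnected normal projective curve
-/

set_option autoImplicit false
set_option linter.style.haveILetI false
set_option linter.unusedSectionVars false
set_option backward.isDefEq.respectTransparency false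
set_option backward.isDefEq.respectTransparency.types false

universe u

open CategoryTheory CategoryTheory.Limits AlgebraicGeometry Opposite TopologicalSpace

noncomputable section

namespace Groth.L21.CurveTors

open Groth.L28.DivGen (compOpen isClosedImmersion_compOpen isIntegral_compOpen)

/-- The cardinality of the cohomology of a finite sum. -/
theorem card_H_biproduct {Y : Scheme.{u}} {ι : Type u} [Fintype ι] (G : ι → EtCoh.Ab Y) [HasBiproduct G] (q : ℕ) :
    Nat.card (EtCoh.H Y (⨁ G) q) = ∏ i, Nat.card (EtCoh.H Y (G i) q) := by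
  classical
  haveI := Groth.L28.CurveCd.isAdditive_HF' (X := Y) q
  have hcomp : ∀ {A B C : EtCoh.Ab Y} (a : A ⟶ B) (b : B ⟶ C) (z : EtCoh.H Y A q),
      (EtCoh.HF Y q).map b ((EtCoh.HF Y q).map a z) = (EtCoh.HF Y q).map (a ≫ b) z := fun a b z =>
    (Groth.L27.LimCoh.HF_map_comp a b q z).symm
  refine (Nat.card_congr (Equiv.ofBijective
    (fun z i => (EtCoh.HF Y q).map (biproduct.π G i) z : _ → ∀ i, EtCoh.H Y (G i) q) ⟨fun a b hab => ?_,
    fun v => ⟨∑ i, (EtCoh.HF Y q).map (biproduct.ι G i) (v i), funext fun j => ?_⟩⟩)).trans Nat.card_pi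
  · refine sub_eq_zero.1 (Groth.L28.CurveCd.eq_zero_of_π G q _ fun i => ?_)
    rw [map_sub, sub_eq_zero]
    exact congrFun hab i
  · simp only [map_sum]
    refine (Finset.sum_eq_single j (fun i _ hij => ?_) fun h => (h (Finset.mem_univ j)).elim).trans ?_
    · rw [hcomp, biproduct.ι_π_ne _ hij, Functor.map_zero]
      rfl
    · rw [hcomp, biproduct.ι_π_self, CategoryTheory.Functor.map_id]
      rfl

variable {k : Type u} [Field k] [IsAlgClosed k] {Y : Scheme.{u}} [Y.Over (Spec (CommRingCat.of k))]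
  [IsProper (Y ↘ Spec (CommRingCat.of k))]

/-- Cohomology of a normal projective curve in degrees zero and one. -/
theorem card_H_normal (hY : Pi1.IsNormalScheme Y) (hdim : topologicalKrullDim Y ≤ 1)
    (hgen : ∀ η ∈ genericPoints Y, ¬ IsClosed ({η} : Set Y)) (n : ℕ) [NeZero n] (hn : (n : k) ≠ 0) :
    Nat.card (EtCoh.H Y (EtCoh.const Y (ZMod n)) 0) = n ^ Nat.card (irreducibleComponents (Y : Type u)) ∧
      Nat.card (EtCoh.H Y (EtCoh.const Y (ZMod n)) 1) = n ^ (2 * Curv2.genus k Y) := by
  classical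
  haveI := Groth.L21.RR.isNoetherian_of_proper (X := Y) k
  have hdom : ∀ y : Y, IsDomain (Y.presheaf.stalk y) := fun y => (hY y).1
  haveI := (NoetherianSpace.finite_irreducibleComponents (α := Y)).to_subtype
  haveI := Fintype.ofFinite (irreducibleComponents (Y : Type u))
  haveI := fun Z => isClosedImmersion_compOpen hdom Z
  let G : irreducibleComponents (Y : Type u) → EtCoh.Ab Y := fun Z =>
    (EtCoh.push (compOpen hdom Z).ι).obj (EtCoh.const (compOpen hdom Z : Scheme.{u}) (ZMod n))
  haveI : HasBiproduct G := HasBiproductsOfShape.has_biproduct _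
  let φ : EtCoh.const Y (ZMod n) ⟶ ⨁ G :=
    biproduct.lift fun Z => Groth.L21.AffCd.constRes (compOpen hdom Z).ι (ZMod n)
  have key : ∀ (Ω : Type u) [Field Ω] [IsSepClosed Ω] (ξ : Spec (CommRingCat.of Ω) ⟶ Y),
      Function.Bijective ((EtCoh.stalk ξ).map φ) := fun Ω _ _ ξ => by
    let x := ξ.base (default : Spec (CommRingCat.of Ω))
    let Z₀ : irreducibleComponents (Y : Type u) :=
      ⟨irreducibleComponent x, irreducibleComponent_mem_irreducibleComponents x⟩
    refine Groth.L28.CurveCd.bijective_stalk_lift G _ ξ Z₀ (fun Z hne => ?_) ?_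
    · refine Groth.L27.EtSite.isZero_stalk_push _ _ ξ fun hx => hne (Subtype.ext ?_)
      have hx' : x ∈ Z.1 := (compOpen hdom Z).range_ι.le hx
      haveI := hdom x
      exact Groth.L21.NormalTotal.eq_of_mem_irreducibleComponents x Z.2 Z₀.2 hx' mem_irreducibleComponent
    · let ξ' : Spec (CommRingCat.of (AlgebraicClosure Ω)) ⟶ Y :=
        Spec.map (CommRingCat.ofHom (algebraMap Ω (AlgebraicClosure Ω))) ≫ ξ
      have hp : ξ'.base default = x :=
        (Scheme.Hom.comp_apply _ _ _).trans (congrArg ξ.base (Subsingleton.elim _ _))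
      have hr : Set.range ξ' ⊆ Set.range (compOpen hdom Z₀).ι := by
        rintro _ ⟨z, rfl⟩
        rw [Subsingleton.elim z default, hp, Scheme.Opens.range_ι]
        exact (mem_irreducibleComponent : x ∈ irreducibleComponent x)
      exact Groth.L21.AffCd.bijective_stalk_of_point _ ξ ξ' hp
        (Groth.L21.AffCd.bijective_stalk_constRes (compOpen hdom Z₀).ι (ZMod n) ξ'
          ⟨IsOpenImmersion.lift _ ξ' hr, IsOpenImmersion.lift_fac _ _ hr, fun w hw =>
            (cancel_mono (compOpen hdom Z₀).ι).1 (hw.trans (IsOpenImmersion.lift_fac _ _ hr).symm)⟩)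
  haveI : Mono φ := (Groth.L27.EtSite.mono_iff_stalks φ).2 fun Ω _ _ ξ => (key Ω ξ).1
  haveI : Epi φ := (Groth.L27.EtSite.epi_iff_stalks φ).2 fun Ω _ _ ξ => (key Ω ξ).2
  haveI : IsIso φ := isIso_of_mono_of_epi _
  have hsplit : ∀ q, Nat.card (EtCoh.H Y (EtCoh.const Y (ZMod n)) q) =
      ∏ Z : irreducibleComponents (Y : Type u),
        Nat.card (EtCoh.H (compOpen hdom Z : Scheme.{u}) (EtCoh.const (compOpen hdom Z : Scheme.{u}) (ZMod n)) q) := by
    intro q
    rw [Nat.card_congr (Groth.L21.CurveKummer.congrH (asIso φ) q).toEquiv, card_H_biproduct]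
    refine Finset.prod_congr rfl fun Z _ => ?_
    haveI := Groth.L27.EtSite.preservesFiniteLimits_pull (compOpen hdom Z).ι
    exact Nat.card_congr (Equiv.ofBijective _ (Groth.L27.EtSite.bijective_HofPush (compOpen hdom Z).ι _ (fun r hr =>
      Groth.L27.EtSite.isZero_Rpush_of_propB _ (Groth.L27.EtSite.propB_of_isIntegralHom _) _ r hr) q))
  haveI := fun Z => isIntegral_compOpen hdom Z
  have hcomp : ∀ Z : irreducibleComponents (Y : Type u),
      Nat.card (EtCoh.H (compOpen hdom Z : Scheme.{u}) (EtCoh.const (compOpen hdom Z : Scheme.{u}) (ZMod n)) 1) =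
        (letI : (compOpen hdom Z : Scheme.{u}).Over (Spec (CommRingCat.of k)) :=
          ⟨(compOpen hdom Z).ι ≫ (Y ↘ Spec (CommRingCat.of k))⟩
         n ^ (2 * Curv2.genus k (compOpen hdom Z : Scheme.{u}))) := by
    intro Z
    let C : Scheme.{u} := (compOpen hdom Z : Scheme.{u})
    letI : C.Over (Spec (CommRingCat.of k)) := ⟨(compOpen hdom Z).ι ≫ (Y ↘ Spec (CommRingCat.of k))⟩
    haveI : IsProper (C ↘ Spec (CommRingCat.of k)) :=
      inferInstanceAs (IsProper ((compOpen hdom Z).ι ≫ (Y ↘ Spec (CommRingCat.of k))))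
    have hle : topologicalKrullDim C ≤ 1 :=
      (Groth.L19.topologicalKrullDim_le_of_isIntegralHom (compOpen hdom Z).ι).trans hdim
    have hCn : Pi1.IsNormalScheme C := fun y => by
      let e := ((compOpen hdom Z).stalkIso y).commRingCatIsoToRingEquiv
      obtain ⟨h1, h2⟩ := hY y.1
      exact ⟨e.toMulEquiv.isDomain, IsIntegrallyClosed.of_equiv e.symm⟩
    haveI : Smooth (C ↘ Spec (CommRingCat.of k)) := Groth.L21.AffCd.smooth_of_normal _ hle hCn
    have hd : topologicalKrullDim C = 1 := le_antisymm hle (Groth.L05.PtSeq.one_le_dim fun hc => by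
      let ι := (compOpen hdom Z).ι
      refine hgen (ι (genericPoint C)) ?_ (by
        rw [← Set.image_singleton]
        exact ι.isClosedEmbedding.isClosedMap _ hc)
      rw [Groth.L20.mem_genericPoints_iff]
      intro w hw
      obtain ⟨z, rfl⟩ : w ∈ Set.range ι :=
        hw.mem_open ι.isOpenEmbedding.isOpen_range ⟨_, rfl⟩
      exact congrArg ι ((genericPoint_specializes z).antisymm
        (ι.isEmbedding.isInducing.specializes_iff.1 hw)).eq.symm)
    obtain ⟨e⟩ := Groth.L21.CurveKummer.nonempty_H1 k C hd n hn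
    obtain ⟨c⟩ := Groth.L21.CurveKummer.nonempty_const_iso_mu (C ↘ Spec (CommRingCat.of k)) n hn
    rw [Nat.card_congr ((Groth.L21.CurveKummer.congrH c 1).trans e).toEquiv, Nat.card_fun, Nat.card_fin,
      Nat.card_zmod]
  refine ⟨?_, ?_⟩
  · rw [hsplit 0, Finset.prod_congr rfl fun Z _ => (Groth.L21.CurveExt.card_H0_const (ZMod n)).trans (Nat.card_zmod n),
      Finset.prod_const, Finset.card_univ, Nat.card_eq_fintype_card]
  · rw [hsplit 1, Finset.prod_congr rfl fun Z _ => hcomp Z, Finset.prod_pow_eq_pow_sum, ← Finset.mul_sum,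
      genus_eq_sum hdom k]

end Groth.L21.CurveTors
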