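import Groth.Agent.L21.CurveKummer.Main
import Groth.Agent.L16.ProperVanishing
import Groth.Agent.L21.RR.Finite
import Mathlib.RingTheory.Artinian.Module
import Mathlib.RingTheory.Artinian.Algebra
import Mathlib.Dynamics.Newton

/-!
# Torsion of the Picard group of a proper scheme and roots of unity
-/

set_option autoImplicit false
set_option linter.style.haveILetI false
set_option linter.unusedSectionVars false
set_option backward.isDefEq.respectTransparency false
set_option backward.isDefEq.respectTransparency.types false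

universe u

open CategoryTheory CategoryTheory.Limits AlgebraicGeometry Opposite CategoryTheory.Abelian
open EtSix

noncomputable section

namespace Groth.L21.CurveTors

attribute [local instance] Groth.Agent.AV.InterPic.picLaw Groth.L08.Cube.clMonoid

/-- Units of a finite algebra over an algebraically closed field have roots of invertible order. -/
theorem exists_pow_eq_unit (k : Type u) [Field k] [IsAlgClosed k] {A : Type u} [CommRing A] (i : k →+* A)
    (hi : i.Finite) {n : ℕ} (hn : (n : k) ≠ 0) (a : Aˣ) : ∃ b : Aˣ, b ^ n = a := by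
  classical
  have hn0 : 0 < n := Nat.pos_of_ne_zero fun h => hn (by simp [h])
  letI := i.toAlgebra
  haveI : Module.Finite k A := hi
  haveI : IsArtinianRing A := IsArtinianRing.of_finite k A
  let R := A ⧸ nilradical A
  haveI : IsReduced R := (Ideal.isRadical_iff_quotient_reduced _).1 (Ideal.radical_isRadical _)
  haveI : IsArtinianRing R := (Ideal.Quotient.mk_surjective (I := nilradical A)).isArtinianRing
  let e := IsArtinianRing.equivPi R
  have hfac : ∀ M : MaximalSpectrum R, ∃ r : R ⧸ M.asIdeal,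
      r ^ n = Ideal.Quotient.mk M.asIdeal (Ideal.Quotient.mk (nilradical A) (a : A)) := fun M => by
    haveI := M.isMaximal
    let q : A →+* R ⧸ M.asIdeal := (Ideal.Quotient.mk M.asIdeal).comp (Ideal.Quotient.mk (nilradical A))
    letI : Field (R ⧸ M.asIdeal) := Ideal.Quotient.field M.asIdeal
    have hq : q.Finite := RingHom.Finite.of_surjective q
      (Ideal.Quotient.mk_surjective.comp Ideal.Quotient.mk_surjective)
    obtain ⟨c, hc⟩ := (IsAlgClosed.ringHom_bijective_of_isIntegral (q.comp i)
      (RingHom.IsIntegral.of_finite (hq.comp hi))).2 (q a)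
    obtain ⟨r, hr⟩ := IsAlgClosed.exists_pow_nat_eq c hn0
    exact ⟨q (i r), by rw [← map_pow, ← map_pow, hr]; exact hc⟩
  choose r hr using hfac
  obtain ⟨x, hx⟩ := Ideal.Quotient.mk_surjective (I := nilradical A) (e.symm r)
  have hxn : IsNilpotent (x ^ n - (a : A)) := by
    refine mem_nilradical.1 (Ideal.Quotient.eq_zero_iff_mem.1 ?_)
    rw [map_sub, map_pow, hx, sub_eq_zero]
    refine e.injective (funext fun M => ?_)
    rw [map_pow, AlgEquiv.apply_symm_apply, Pi.pow_apply, hr, IsArtinianRing.equivPi_apply]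
  have hxu : IsUnit x := by
    refine (isUnit_pow_iff hn0.ne').1 ?_
    have := hxn.isUnit_add_right_of_commute a.isUnit (Commute.all _ _)
    rwa [sub_add_cancel] at this
  let P : Polynomial A := Polynomial.X ^ n - Polynomial.C (a : A)
  have hP : ∀ y : A, Polynomial.aeval y P = y ^ n - (a : A) := fun y => by simp [P]
  obtain ⟨b, ⟨-, hb⟩, -⟩ := Polynomial.existsUnique_nilpotent_sub_and_aeval_eq_zero (P := P) (x := x)
    (by rw [hP]; exact hxn) (by
      simp only [P, Polynomial.derivative_sub, Polynomial.derivative_X_pow, Polynomial.derivative_C, sub_zero,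
        map_mul, Polynomial.aeval_C, map_pow, Polynomial.aeval_X]
      refine IsUnit.mul ?_ (hxu.pow _)
      have := (isUnit_iff_ne_zero.2 hn).map i
      simpa using this)
  rw [hP, sub_eq_zero] at hb
  have hbu : IsUnit b := (isUnit_pow_iff hn0.ne').1 (hb.symm ▸ a.isUnit)
  exact ⟨hbu.unit, Units.ext (by rw [Units.val_pow_eq_pow_val, IsUnit.unit_spec, hb])⟩

variable (k : Type u) [Field k] (X : Scheme.{u}) [X.Over (Spec (CommRingCat.of k))]
  [IsProper (X ↘ Spec (CommRingCat.of k))]

/-- The structure map on global functions. -/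
def iota : k →+* Γ(X, ⊤) :=
  ((Scheme.ΓSpecIso (CommRingCat.of k)).inv ≫ (X ↘ Spec (CommRingCat.of k)).appTop).hom

/-- Global functions of a proper scheme are finite dimensional. -/
theorem finite_iota : (iota k X).Finite := by
  classical
  haveI := Groth.L21.RR.isNoetherian_of_proper (X := X) k
  haveI := Groth.L21.RR.finite_HH' k (X := X) Groth.L16.CohClosedPush.isCoh_structure 0
  obtain ⟨s, hs⟩ := Groth.L16.ProperVanishing.finite_sections_top k (Coh.structureModule X)
  letI := (iota k X).toAlgebra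
  refine (Module.finite_def.2 ⟨(s.image fun x => (show Γ(X, ⊤) from x)), top_le_iff.1 fun m _ => ?_⟩ :
    Module.Finite k Γ(X, ⊤))
  obtain ⟨c, hc⟩ := hs m
  refine (Submodule.span k _).sum_mem (f := fun x => iota k X (c x) * (show Γ(X, ⊤) from x)) (t := s)
    (fun x hx => ?_) |> fun h => (show m = _ from hc) ▸ h
  show iota k X (c x) * _ ∈ _
  rw [← (iota k X).algebraMap_toAlgebra, ← Algebra.smul_def]
  exact Submodule.smul_mem _ _ (Submodule.subset_span (Finset.mem_image_of_mem _ hx))

variable [IsAlgClosed k]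

include k in
/-- Global units are divisible by invertible integers. -/
theorem exists_nsmul_H0' (n : ℕ) (hn : (n : k) ≠ 0) (y : EtCoh.H X (EtCoh.Gm X) 0) : ∃ z, n • z = y := by
  let t := Groth.L27.LimCoh.secEq (EtCoh.Gm X) y
  let a : Γ(X, ⊤)ˣ := Groth.L27.MuConst.toUnit (U := EtCoh.top X) t
  obtain ⟨b, hb⟩ := exists_pow_eq_unit k (iota k X) (finite_iota k X) hn a
  let s : (EtCoh.Gm X).obj.obj (op (EtCoh.top X)) := Groth.L27.MuConst.ofUnit (U := EtCoh.top X) b
  refine ⟨(Groth.L27.LimCoh.secEq (EtCoh.Gm X)).symm s, (Groth.L27.LimCoh.secEq (EtCoh.Gm X)).injective ?_⟩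
  rw [map_nsmul, AddEquiv.apply_symm_apply]
  refine Groth.L27.MuConst.toUnit_injective ?_
  rw [Groth.L27.MuConst.toUnit_nsmul]
  exact hb

include k in
/-- Invertible modules killed by `n` are counted by the first cohomology of the roots of unity. -/
theorem card_pic_torsion_eq (n : ℕ) (hn : (n : k) ≠ 0) :
    Nat.card {c : PicF.Cl X | ∃ M : X.Modules, PicF.cl M = c ∧ PicF.IsInvertible M ∧
        Nonempty (CohB1.tensorPow M n ≅ Coh.structureModule X)} = Nat.card (EtCoh.H X (EtCoh.mu X n) 1) := by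
  haveI : NeZero n := ⟨fun h => hn (by simp [h])⟩
  have hu : IsUnit (n : Γ(X, ⊤)) := by
    have := (isUnit_iff_ne_zero.2 hn).map (iota k X)
    rwa [map_natCast] at this
  have h := Groth.L28.GmTorsion.epi_powMap hu
  obtain ⟨e⟩ := Groth.L28.GmH1.nonempty_equiv_pic X
  let ι : EtCoh.H X (EtCoh.mu X n) 1 →+ EtCoh.H X (EtCoh.Gm X) 1 :=
    (Ext.mk₀ (EtCoh.muι X n)).postcomp _ (add_zero 1)
  have hι : Function.Injective ι := (injective_iff_map_eq_zero ι).2 fun x hx => by
    obtain ⟨y, hy⟩ := Ext.covariant_sequence_exact₁ _ (kummerShortExact h) x hx (zero_add 1)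
    obtain ⟨z, hz⟩ := exists_nsmul_H0' k X n hn y
    rw [← hy, ← hz, ← Groth.L28.GmTorsion.comp_mk₀_powMap n 0 z]
    refine (Ext.comp_assoc_of_second_deg_zero z _ _ _).trans ?_
    refine Eq.trans ?_ (Ext.comp_zero z _ 1 _ (zero_add 1))
    exact congrArg (fun w => z.comp w (zero_add 1)) (kummerShortExact h).comp_extClass
  have hzero : ∀ x, n • ι x = 0 := fun x => by
    rw [← Groth.L28.GmTorsion.comp_mk₀_powMap n 1 (ι x)]
    refine (Ext.comp_assoc_of_second_deg_zero _ _ _ _).trans ?_
    rw [Ext.mk₀_comp_mk₀, show EtCoh.muι X n ≫ EtCoh.powMap X n = 0 from kernel.condition _, Ext.mk₀_zero,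
      Ext.comp_zero]
  have hrange : ∀ ξ : EtCoh.H X (EtCoh.Gm X) 1, n • ξ = 0 → ∃ x, ι x = ξ := fun ξ hξ =>
    Ext.covariant_sequence_exact₂ _ (kummerShortExact h) ξ
      ((Groth.L28.GmTorsion.comp_mk₀_powMap n 1 ξ).trans hξ)
  have hpow : ∀ (c : PicLoc.PicSet X) (m : ℕ), (c ^ m).1 = (c.1 : PicF.Cl X) ^ m := fun c m => by
    induction m with
    | zero => rw [pow_zero, pow_zero, PicGrp.one_val]; rfl
    | succ m ih => rw [pow_succ, pow_succ, PicGrp.mul_val, ih]; rfl
  have hiff : ∀ M : X.Modules, Nonempty (CohB1.tensorPow M n ≅ Coh.structureModule X) ↔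
      (PicF.cl M) ^ n = (1 : PicF.Cl X) := fun M => by
    rw [← PicGrp.cl_eq_cl_iff, Groth.L08.Cube.cl_tensorPow]
    rfl
  let S := {c : PicF.Cl X | ∃ M : X.Modules, PicF.cl M = c ∧ PicF.IsInvertible M ∧
    Nonempty (CohB1.tensorPow M n ≅ Coh.structureModule X)}
  have hto : ∀ p : {p : Additive (PicLoc.PicSet X) // n • p = 0}, (Additive.toMul p.1).1 ∈ S := fun p =>
    ⟨Groth.Agent.AV.InterPic.rep (Additive.toMul p.1), Groth.Agent.AV.InterPic.cl_rep _,
      Groth.Agent.AV.InterPic.isInvertible_rep _, (hiff _).2 (by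
        rw [Groth.Agent.AV.InterPic.cl_rep, ← hpow, ← toMul_nsmul, p.2, toMul_zero, PicGrp.one_val]
        rfl)⟩
  have hinv : ∀ c : S, PicF.IsInvertibleCl c.1 := fun c => by
    obtain ⟨M, hM, hMi, -⟩ := c.2
    exact ⟨M, hM, hMi⟩
  let q : S → Additive (PicLoc.PicSet X) := fun c => Additive.ofMul (α := PicLoc.PicSet X) ⟨c.1, hinv c⟩
  have hzero' : ∀ c : S, n • q c = 0 := fun c => by
    obtain ⟨M, hM, -, hi⟩ := c.2
    apply Additive.toMul.injective
    apply Subtype.ext
    rw [toMul_nsmul, toMul_zero, PicGrp.one_val]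
    refine (hpow _ n).trans ?_
    show (c.1 : PicF.Cl X) ^ n = _
    rw [← hM]
    exact (hiff M).1 hi
  refine ((Nat.card_congr
    { toFun := fun p => ⟨(Additive.toMul p.1).1, hto p⟩
      invFun := fun c => ⟨q c, hzero' c⟩
      left_inv := fun p => rfl
      right_inv := fun c => rfl } : Nat.card {p : Additive (PicLoc.PicSet X) // n • p = 0} = Nat.card S).symm).trans ?_
  refine (Nat.card_congr (Equiv.ofBijective
    (fun x => (⟨e.symm (ι x), by rw [← map_nsmul, hzero, map_zero]⟩ :
      {p : Additive (PicLoc.PicSet X) // n • p = 0})) ⟨fun x y hxy => ?_, fun p => ?_⟩)).symm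
  · exact hι (e.symm.injective (congrArg Subtype.val hxy))
  · obtain ⟨x, hx⟩ := hrange (e p.1) (by rw [← map_nsmul, p.2, map_zero])
    exact ⟨x, Subtype.ext ((congrArg e.symm hx).trans (e.symm_apply_apply _))⟩

end Groth.L21.CurveTors
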