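import Groth.Agent.L21.CurveExt.NodeCoh
import Groth.Agent.L21.CurveExt.Five

/-!
# Points lifting uniquely and sheaves with finite support
-/

set_option autoImplicit false
set_option linter.style.haveILetI false
set_option linter.unusedSectionVars false
set_option backward.isDefEq.respectTransparency false
set_option backward.isDefEq.respectTransparency.types false

universe u

open CategoryTheory CategoryTheory.Limits AlgebraicGeometry Opposite TopologicalSpace CategoryTheory.Abelian

noncomputable section

namespace Groth.L21.CurveTors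

/-- Points lift uniquely through a fibre consisting of one point with the same residue field. -/
theorem existsUnique_lift_of_fibre {N X : Scheme.{u}} (π : N ⟶ X) {Ω : Type u} [Field Ω] [IsSepClosed Ω]
    (ξ : Spec (CommRingCat.of Ω) ⟶ X) {x : X} (hξ : ξ.base default = x) (y : N) (hy : π y = x)
    (huniq : ∀ z, π z = x → z = y) (hres : Function.Bijective (π.residueFieldMap y).hom) :
    ∃! v, v ≫ π = ξ := by
  subst hy
  obtain ⟨η, hη⟩ := Groth.L28.Sky.exists_factor ξ (π y) hξ
  haveI : IsIso (π.residueFieldMap y) := (ConcreteCategory.isIso_iff_bijective _).2 hres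
  have hw : Spec.map (π.residueFieldMap y) ≫ X.fromSpecResidueField (π y) = N.fromSpecResidueField y ≫ π :=
    Scheme.Hom.SpecMap_residueFieldMap_fromSpecResidueField π y
  refine ⟨η ≫ inv (Spec.map (π.residueFieldMap y)) ≫ N.fromSpecResidueField y, ?_, fun v hv => ?_⟩
  · simp only [Category.assoc]
    rw [← hw, IsIso.inv_hom_id_assoc, hη]
  · have hvy : v.base default = y := huniq _ (by rw [← Scheme.Hom.comp_apply, hv]; exact hξ)
    obtain ⟨δ, hδ⟩ := Groth.L28.Sky.exists_factor v y hvy
    rw [← hδ]
    have h1 : δ ≫ Spec.map (π.residueFieldMap y) = η := by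
      refine (cancel_mono (X.fromSpecResidueField (π y))).1 ?_
      rw [Category.assoc, hw, ← Category.assoc, hδ, hv, hη]
    rw [← h1]
    simp only [Category.assoc, IsIso.hom_inv_id_assoc]

variable {k : Type u} [Field k] [IsAlgClosed k] {X : Scheme.{u}} (f : X ⟶ Spec (CommRingCat.of k))
  [LocallyOfFiniteType f] [QuasiCompact f]

open Groth.L28.CurveCd (sec incl isZero_stalk_sec supp_sec exists_germ_lift subsingleton_H_sec isZero_stalk_cokernel)

/-- The global sections of a sheaf supported at finitely many closed points. -/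
theorem card_H0_finite_supp (S : Finset X) :
    ∀ (Q : EtCoh.Ab X) (c : X → ℕ), (∀ x ∈ S, IsClosed ({x} : Set X)) → EtPBC.supp Q ⊆ ↑S →
      (∀ x ∈ S, ∀ hx : IsClosed ({x} : Set X),
        Nat.card ↥((EtCoh.stalk (pointOfClosedPoint f x hx)).obj Q) = c x) →
      Nat.card (EtCoh.H X Q 0) = ∏ x ∈ S, c x := by
  classical
  haveI : IsLocallyNoetherian X := LocallyOfFiniteType.isLocallyNoetherian f
  induction S using Finset.induction_on with
  | empty =>
    intro Q c _ hsupp _
    rw [Finset.prod_empty]
    have hz : IsZero Q := by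
      haveI : Mono (0 : Q ⟶ Q) := (Groth.L27.EtSite.mono_iff_stalks _).2 fun Ω _ _ ξ => by
        have hzs : IsZero ((EtCoh.stalk ξ).obj Q) := by
          by_contra hne
          exact absurd (hsupp (show ξ.base default ∈ EtPBC.supp Q from
            ⟨Ω, inferInstance, inferInstance, ξ, Groth.L28.Spz.range_eq_singleton ξ rfl, hne⟩)) (Finset.notMem_empty _)
        haveI := AddCommGrpCat.subsingleton_of_isZero hzs
        exact Function.injective_of_subsingleton _
      exact (IsZero.iff_id_eq_zero Q).2 ((cancel_mono (0 : Q ⟶ Q)).1 (by simp))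
    haveI : Subsingleton (EtCoh.H X Q 0) := AddCommGrpCat.subsingleton_of_isZero ((EtCoh.HF X 0).map_isZero hz)
    exact Nat.card_of_subsingleton 0
  | insert x S hxS ih =>
    intro Q c hcl hsupp hstalk
    have hx : IsClosed ({x} : Set X) := hcl x (Finset.mem_insert_self x S)
    have hcl' : ∀ y ∈ EtPBC.supp Q, IsClosed ({y} : Set X) := fun y hy => hcl y (hsupp hy)
    let T : ShortComplex (EtCoh.Ab X) := ShortComplex.mk (incl hx Q) (cokernel.π (incl hx Q)) (cokernel.condition _)
    have hT : T.ShortExact := { exact := ShortComplex.exact_cokernel _ }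
    have hlift : ∀ (Ω : Type u) [Field Ω] [IsSepClosed Ω] (ξ : Spec (CommRingCat.of Ω) ⟶ X), ξ.base default = x →
        ∀ z : (EtCoh.stalk ξ).obj Q, ∃ w, (EtCoh.stalk ξ).map (incl hx Q) w = z := fun Ω _ _ ξ e z => by
      subst e
      exact exists_germ_lift Q hcl' ξ hx z
    let σ := pointOfClosedPoint f x hx
    haveI : IsClosedImmersion σ := isClosedImmersion_of_comp_eq_id _ _ (pointOfClosedPoint_comp f x hx)
    have hσ : σ.base default = x := pointOfClosedPoint_apply f x hx _
    have hsec : Nat.card (EtCoh.H X T.X₁ 0) = c x := by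
      rw [Groth.L21.CurveExt.card_H0_supported σ _ ((supp_sec hx Q).trans (by
        rw [Groth.L21.CurveExt.range_pointSpec σ, hσ]))]
      refine (Nat.card_congr (Equiv.ofBijective ((EtCoh.stalk σ).map (incl hx Q)) ⟨?_, fun z => ?_⟩)).trans
        (hstalk x (Finset.mem_insert_self x S) hx)
      · exact (Groth.L27.EtSite.mono_iff_stalks (incl hx Q)).1 inferInstance k σ
      · exact hlift k σ hσ z
    have hQ' : EtPBC.supp T.X₃ ⊆ ↑S := by
      rintro y ⟨Ω, _, _, ξ, hξ, hne⟩
      obtain rfl : ξ.base default = y := hξ.subset ⟨_, rfl⟩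
      by_contra hyS
      refine hne (isZero_stalk_cokernel _ ξ fun z => ?_)
      by_cases hyx : ξ.base default = x
      · exact hlift Ω ξ hyx z
      · have hz : IsZero ((EtCoh.stalk ξ).obj Q) := by
          by_contra hnQ
          have hmem := hsupp (show ξ.base default ∈ EtPBC.supp Q from
            ⟨Ω, inferInstance, inferInstance, ξ, hξ, hnQ⟩)
          rcases Finset.mem_insert.1 hmem with h | h
          · exact hyx h
          · exact hyS h
        exact ⟨0, @Subsingleton.elim _ (AddCommGrpCat.subsingleton_of_isZero hz) _ _⟩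
    have hQ'c := ih T.X₃ c (fun y hy => hcl y (Finset.mem_insert_of_mem hy)) hQ' fun y hy hyc => by
      rw [← hstalk y (Finset.mem_insert_of_mem hy) hyc,
        show (EtCoh.stalk (pointOfClosedPoint f y hyc)).obj Q = (EtCoh.stalk (pointOfClosedPoint f y hyc)).obj T.X₂ from rfl]
      haveI : (EtCoh.stalk (pointOfClosedPoint f y hyc)).PreservesZeroMorphisms := inferInstance
      have hc := Groth.L21.CurveExt.card_of_shortExact (hT.map_of_exact (EtCoh.stalk (pointOfClosedPoint f y hyc)))
      haveI : Subsingleton ↥((EtCoh.stalk (pointOfClosedPoint f y hyc)).obj T.X₁) :=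
        AddCommGrpCat.subsingleton_of_isZero (isZero_stalk_sec hx Q _ (by
          rw [pointOfClosedPoint_apply]
          rintro rfl
          exact hxS hy))
      have h1 : Nat.card ↥((T.map (EtCoh.stalk (pointOfClosedPoint f y hyc))).X₁) = 1 := by
        haveI : Subsingleton ↥((T.map (EtCoh.stalk (pointOfClosedPoint f y hyc))).X₁) :=
          ‹Subsingleton ↥((EtCoh.stalk (pointOfClosedPoint f y hyc)).obj T.X₁)›
        exact Nat.card_of_subsingleton 0
      rw [h1, one_mul] at hc
      exact hc.symm
    haveI : Subsingleton (EtCoh.H X T.X₁ 1) := subsingleton_H_sec hx f Q 0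
    have hsurj : Function.Surjective ((EtCoh.HF X 0).map T.g) := fun z => by
      obtain ⟨w, hw⟩ := Ext.covariant_sequence_exact₃ _ hT z rfl (Subsingleton.elim (α := EtCoh.H X T.X₁ 1) _ _)
      exact ⟨w, (Groth.L27.EtSite.HF_map_apply T.g 0 w).trans hw⟩
    have hinj : Function.Injective ((EtCoh.HF X 0).map T.f) := (injective_iff_map_eq_zero _).2 fun a ha =>
      Groth.L21.CurveExt.eq_zero_of_map_f_zero hT a ha
    let g : EtCoh.H X T.X₂ 0 →+ EtCoh.H X T.X₃ 0 := ((EtCoh.HF X 0).map T.g).hom
    let i : EtCoh.H X T.X₁ 0 →+ EtCoh.H X T.X₂ 0 := ((EtCoh.HF X 0).map T.f).hom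
    have hker : g.ker = i.range := by
      ext z
      refine ⟨fun hz => ?_, ?_⟩
      · obtain ⟨a, ha⟩ := Groth.L21.CurveExt.exists_map_f hT 0 z hz
        exact ⟨a, ha⟩
      · rintro ⟨a, rfl⟩
        exact Groth.L21.CurveExt.map_g_f hT 0 a
    show Nat.card (EtCoh.H X T.X₂ 0) = _
    rw [Finset.prod_insert hxS, AddSubgroup.card_eq_card_quotient_mul_card_addSubgroup g.ker,
      Nat.card_congr (QuotientAddGroup.quotientKerEquivOfSurjective g hsurj).toEquiv, hker, hQ'c,
      show Nat.card i.range = c x from (Nat.card_congr (Equiv.ofInjective i hinj)).symm.trans hsec, mul_comm]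

end Groth.L21.CurveTors
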