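import Groth.Agent.L21.CurveTors.Branches
import Groth.Agent.L21.CurveTors.NormalProper
import Groth.Agent.L21.CurveTors.PicTors
import Groth.Agent.L21.CurveTors.Supported
import Groth.Agent.L21.NormRed.Euler
import Groth.Agent.L27.FLC.Const
import Groth.Agent.L27.EtSite.PushFinite
import Groth.Agent.L18.CurveBasic

/-!
# Torsion of the Picard group: toric and abelian ranks
-/

set_option autoImplicit false
set_option linter.style.haveILetI false
set_option linter.unusedSectionVars false
set_option backward.isDefEq.respectTransparency false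
set_option backward.isDefEq.respectTransparency.types false

universe u

open CategoryTheory CategoryTheory.Limits AlgebraicGeometry Opposite TopologicalSpace CategoryTheory.Abelian

noncomputable section

namespace Groth.L21.CurveTors

/-- The orders in a six-term exact sequence of groups beginning and ending with zero. -/
theorem card_five {A B C D E : Type*} [AddCommGroup A] [AddCommGroup B] [AddCommGroup C] [AddCommGroup D]
    [AddCommGroup E] (a : A →+ B) (b : B →+ C) (c : C →+ D) (d : D →+ E) (ha : Function.Injective a)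
    (hab : b.ker = a.range) (hbc : c.ker = b.range) (hcd : d.ker = c.range) (hd : Function.Surjective d) :
    Nat.card D * Nat.card B = Nat.card E * Nat.card C * Nat.card A := by
  have h1 : Nat.card D = Nat.card E * Nat.card c.range := by
    rw [AddSubgroup.card_eq_card_quotient_mul_card_addSubgroup d.ker,
      Nat.card_congr (QuotientAddGroup.quotientKerEquivOfSurjective d hd).toEquiv, hcd]
  have h2 : Nat.card C = Nat.card c.range * Nat.card b.range := by
    rw [AddSubgroup.card_eq_card_quotient_mul_card_addSubgroup c.ker,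
      Nat.card_congr (QuotientAddGroup.quotientKerEquivRange c).toEquiv, hbc]
  have h3 : Nat.card B = Nat.card b.range * Nat.card A := by
    rw [AddSubgroup.card_eq_card_quotient_mul_card_addSubgroup b.ker,
      Nat.card_congr (QuotientAddGroup.quotientKerEquivRange b).toEquiv, hab,
      show Nat.card a.range = Nat.card A from (Nat.card_congr (Equiv.ofInjective a ha)).symm]
  rw [h1, h2, h3]
  ring

variable (k : Type u) [Field k] [IsAlgClosed k] {X X' : Scheme.{u}} [X.Over (Spec (CommRingCat.of k))]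
  [IsProper (X ↘ Spec (CommRingCat.of k))] [X'.Over (Spec (CommRingCat.of k))]
  (hequi : ∀ Z ∈ irreducibleComponents (X : Type u), topologicalKrullDim Z = 1) [ConnectedSpace X]
  (π : X' ⟶ X) [IsFinite π] (hπ : π ≫ (X ↘ Spec (CommRingCat.of k)) = X' ↘ Spec (CommRingCat.of k))
  (hX' : Pi1.IsNormalScheme X') (hbij : Set.BijOn (fun x' : X' => π x') (genericPoints X') (genericPoints X))
  (hres : ∀ x' ∈ genericPoints X', Function.Bijective (π.residueFieldMap x').hom)

include hequi in
theorem not_isClosed_generic {η : X} (hη : η ∈ genericPoints X) : ¬ IsClosed ({η} : Set X) := fun hc => by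
  have hmem : ({η} : Set X) ∈ irreducibleComponents (X : Type u) := by
    have h : closure ({η} : Set X) ∈ irreducibleComponents (X : Type u) := hη
    rwa [hc.closure_eq] at h
  haveI : Subsingleton ({η} : Set X) := ⟨fun a b => Subtype.ext (a.2.trans b.2.symm)⟩
  haveI : Nonempty ({η} : Set X) := ⟨⟨η, rfl⟩⟩
  have h := hequi _ hmem
  exact absurd (h.ge.trans (topologicalKrullDim_zero_of_discreteTopology ({η} : Set X))) (by decide)

set_option maxHeartbeats 1600000 in
open Classical in
include hequi hπ hX' hbij hres in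
/-- The number of classes of invertible modules killed by `n`. -/
theorem card_pic_torsion (n : ℕ) [NeZero n] (hn : (n : k) ≠ 0) :
    ∃ E : ℕ, ((E : ℤ) = (∑ᶠ x : X, (if IsClosed ({x} : Set X) then (((Brnch.numBranchesAt X x).toNat : ℤ) - 1) else 0))
        + 1 + 2 * (Curv2.genus k X' : ℤ)) ∧
      Nat.card {c : PicF.Cl X | ∃ M : X.Modules, PicF.cl M = c ∧ PicF.IsInvertible M ∧
          Nonempty (CohB1.tensorPow M n ≅ Coh.structureModule X)} *
        n ^ Nat.card (irreducibleComponents (X : Type u)) = n ^ E := by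
  let f := X ↘ Spec (CommRingCat.of k)
  let g := X' ↘ Spec (CommRingCat.of k)
  haveI := Groth.L21.RR.isNoetherian_of_proper (X := X) k
  haveI : IsProper g := by show IsProper (X' ↘ _); rw [← hπ]; infer_instance
  haveI := Groth.L21.RR.isNoetherian_of_proper (X := X') k
  have hd : topologicalKrullDim X ≤ 1 := Groth.L21.NormRed.dim_le_one_of_components hequi
  have hd' : topologicalKrullDim X' ≤ 1 := (Groth.L19.topologicalKrullDim_le_of_isIntegralHom π).trans hd
  obtain ⟨U, hU, hsurj, hone, hbr⟩ := exists_dense_branches π hX' hbij hres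
  haveI := hsurj
  let m : X → ℕ := fun x => Nat.card {y : X' // π y = x}
  -- points which are not closed
  have hmax : ∀ x : X, ¬ IsClosed ({x} : Set X) → x ∈ genericPoints X := fun x hx =>
    (Groth.L20.mem_genericPoints_iff x).2 ((Groth.L28.CurveCd.isClosed_or_maximal hd x).resolve_left hx)
  have hgenfib : ∀ x ∈ genericPoints X, ∃ y ∈ genericPoints X', π y = x ∧ ∀ z, π z = x → z = y := fun x hx => by
    obtain ⟨y, hy, hyx⟩ := hbij.surjOn hx
    exact ⟨y, hy, hyx, fun z hz => Groth.L21.NormRed.eq_of_image_generic π hbij hx hy hyx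
      (hz ▸ specializes_refl _)⟩
  -- the finite exceptional set
  have hSfin : ((U : Set X)ᶜ).Finite := by
    refine Groth.L18.Curve.finite_of_forall_isClosed U.isOpen.isClosed_compl fun x hx => ?_
    by_contra hc
    exact hx (Groth.L20.mem_of_dense_of_mem_genericPoints U hU (hmax x hc))
  let S : Finset X := hSfin.toFinset.filter fun x => m x ≠ 1
  have hScl : ∀ x ∈ S, IsClosed ({x} : Set X) := fun x hx => by
    have hxU : x ∉ U := hSfin.mem_toFinset.1 (Finset.mem_filter.1 hx).1
    by_contra hc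
    exact hxU (Groth.L20.mem_of_dense_of_mem_genericPoints U hU (hmax x hc))
  have hS1 : ∀ x, x ∉ S → m x = 1 := fun x hx => by
    by_contra h
    exact hx (Finset.mem_filter.2 ⟨hSfin.mem_toFinset.2 fun hxU => h (hone x hxU), h⟩)
  have hfinfib : ∀ x, Finite {y : X' // π y = x} := fun x => (π.finite_preimage_singleton x).to_subtype
  have hm1 : ∀ x, 1 ≤ m x := fun x => by
    haveI := hfinfib x
    haveI : Nonempty {y : X' // π y = x} := let ⟨y, hy⟩ := π.surjective x; ⟨⟨y, hy⟩⟩
    exact Nat.card_pos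
  -- lifts of geometric points
  have hclN : ∀ y, IsClosed ({π y} : Set X) → IsClosed ({y} : Set X') := fun y hy => by
    rcases Groth.L28.CurveCd.isClosed_or_maximal hd' y with h | h
    · exact h
    · exact absurd hy (not_isClosed_generic hequi (hbij.mapsTo ((Groth.L20.mem_genericPoints_iff y).2 h)))
  have hg : π ≫ f = g := hπ
  have hcount : ∀ {Ω : Type u} [Field Ω] [IsSepClosed Ω] (ξ : Spec (CommRingCat.of Ω) ⟶ X) (x : X),
      IsClosed ({x} : Set X) → ξ.base default = x →
      Nonempty ({v : Spec (CommRingCat.of Ω) ⟶ X' // v ≫ π = ξ} ≃ {y // π y = x}) := by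
    intro Ω _ _ ξ x hxc hξ
    refine ⟨⟨fun v => ⟨v.1.base default, by rw [← Scheme.Hom.comp_apply, v.2]; exact hξ⟩,
      fun y => ⟨(ξ ≫ f) ≫ pointOfClosedPoint g y.1 (hclN y.1 (y.2.symm ▸ hxc)), ?_⟩, fun v => ?_, fun y => ?_⟩⟩
    · have e : pointOfClosedPoint g y.1 (hclN y.1 (y.2.symm ▸ hxc)) ≫ π = pointOfClosedPoint f x hxc :=
        ext_of_apply_closedPoint_eq f (by rw [Category.assoc, hg]; exact pointOfClosedPoint_comp g _ _)
          (pointOfClosedPoint_comp f x hxc)
          (by rw [Scheme.Hom.comp_apply, pointOfClosedPoint_apply, pointOfClosedPoint_apply, y.2])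
      rw [Category.assoc, e]
      exact (Groth.L21.CurveExt.eq_comp_pointOfClosedPoint f ξ x hxc hξ).symm
    · refine Subtype.ext ?_
      show (ξ ≫ f) ≫ pointOfClosedPoint g (v.1.base default) _ = v.1
      rw [show ξ ≫ f = v.1 ≫ g by rw [← hg, ← Category.assoc, v.2]]
      exact (Groth.L21.CurveExt.eq_comp_pointOfClosedPoint g v.1 _ _ rfl).symm
    · exact Subtype.ext ((Scheme.Hom.comp_apply _ _ _).trans (pointOfClosedPoint_apply g _ _ _))
  -- the short exact sequence
  haveI := Groth.L27.EtSite.preservesFiniteLimits_pull π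
  let C := EtCoh.const X (ZMod n)
  let η : C ⟶ (EtCoh.push π).obj ((EtCoh.pull π).obj C) := (EtCoh.pullPushAdj π).unit.app C
  haveI : Mono η := Groth.L27.HenselClosed.mono_unit π C
  let T : ShortComplex (EtCoh.Ab X) := ShortComplex.mk η (cokernel.π η) (cokernel.condition η)
  have hT : T.ShortExact := { exact := ShortComplex.exact_cokernel η }
  have hsupp : EtPBC.supp T.X₃ ⊆ ↑S := by
    rintro y ⟨Ω, _, _, ξ, hξ, hne⟩
    obtain rfl : ξ.base default = y := hξ.subset ⟨_, rfl⟩
    by_contra hyS
    refine hne (Groth.L28.CurveCd.isZero_stalk_cokernel η ξ (Function.Bijective.surjective ?_))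
    let ξ' : Spec (CommRingCat.of (AlgebraicClosure Ω)) ⟶ X :=
      Spec.map (CommRingCat.ofHom (algebraMap Ω (AlgebraicClosure Ω))) ≫ ξ
    have hp : ξ'.base default = ξ.base default :=
      (Scheme.Hom.comp_apply _ _ _).trans (congrArg ξ.base (Subsingleton.elim _ _))
    have hex : ∃! v, v ≫ π = ξ' := by
      by_cases hc : IsClosed ({ξ.base default} : Set X)
      · obtain ⟨e⟩ := hcount ξ' (ξ.base default) hc hp
        obtain ⟨hs, hne⟩ := Nat.card_eq_one_iff_unique.1 ((Nat.card_congr e).trans (hS1 _ hyS))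
        haveI := hs
        obtain ⟨v⟩ := hne
        exact ⟨v.1, v.2, fun w hw => congrArg Subtype.val (Subsingleton.elim (⟨w, hw⟩ : {v // v ≫ π = ξ'}) v)⟩
      · obtain ⟨y, hy, hyx, huniq⟩ := hgenfib _ (hmax _ hc)
        exact existsUnique_lift_of_fibre π ξ' hp y hyx huniq (hres y hy)
    have hb := Groth.L21.AffCd.bijective_stalk_of_point _ ξ ξ' hp
      (Groth.L21.AffCd.bijective_stalk_constRes π (ZMod n) ξ' hex)
    rw [Groth.L21.AffCd.constRes, Functor.map_comp] at hb
    exact ((ConcreteCategory.bijective_of_isIso ((EtCoh.stalk ξ).map ((EtCoh.push π).map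
      ((EtCore.pullConstIso π).app (AddCommGrpCat.of (ULift.{u + 1} (ZMod n)))).hom))).of_comp_iff' _).1 hb
  -- the stalks of the cokernel
  have hstalk : ∀ x ∈ S, ∀ hx : IsClosed ({x} : Set X),
      Nat.card ↥((EtCoh.stalk (pointOfClosedPoint f x hx)).obj T.X₃) = n ^ (m x - 1) := by
    intro x _ hx
    let σ := pointOfClosedPoint f x hx
    have hσ : σ.base default = x := pointOfClosedPoint_apply f x hx _
    haveI : IsClosedImmersion σ := isClosedImmersion_of_comp_eq_id _ _ (pointOfClosedPoint_comp f x hx)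
    have hstalkC : Nat.card ↥((EtCoh.stalk σ).obj C) = n := by
      rw [Nat.card_congr (Groth.L28.Pts.sheafFiberConstIso _ (Groth.L28.Sky.inverted σ)
        (AddCommGrpCat.of (ULift.{u + 1} (ZMod n)))).addCommGroupIsoToAddEquiv.toEquiv]
      exact (Nat.card_congr Equiv.ulift).trans (Nat.card_zmod n)
    have hstalkP : Nat.card ↥((EtCoh.stalk σ).obj T.X₂) = n ^ m x := by
      obtain ⟨e⟩ := Groth.L27.EtSite.PushFinite.nonempty_stalk_push_iso π σ ((EtCoh.pull π).obj C)
      obtain ⟨eL⟩ := hcount σ x hx hσ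
      haveI := hfinfib x
      haveI : Finite {v // v ≫ π = σ} := Finite.of_equiv _ eL.symm
      let eF : Fin (m x) ≃ {v // v ≫ π = σ} := (Finite.equivFinOfCardEq (Nat.card_congr eL)).symm
      let P := fun v : {v // v ≫ π = σ} => (EtCoh.stalk v.1).obj ((EtCoh.pull π).obj C)
      let i₁ : (∐ P) ≅ ∐ fun i => P (eF i) :=
        (Sigma.whiskerEquiv (f := fun i => P (eF i)) (g := P) eF fun i => Iso.refl _).symm
      let i₂ := (biproduct.isoCoproduct fun i => P (eF i)).symm
      have hP : ∀ v, Nat.card ↥(P v) = n := fun v => by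
        rw [Nat.card_congr ((EtCoh.stalk v.1).mapIso
          (EtCore.pullConst π (ZMod n)) ≪≫ Groth.L28.Pts.sheafFiberConstIso _ (Groth.L28.Sky.inverted v.1)
          (AddCommGrpCat.of (ULift.{u + 1} (ZMod n)))).addCommGroupIsoToAddEquiv.toEquiv]
        exact (Nat.card_congr Equiv.ulift).trans (Nat.card_zmod n)
      rw [Nat.card_congr (e ≪≫ i₁ ≪≫ i₂ ≪≫ AddCommGrpCat.biproductIsoPi _).addCommGroupIsoToAddEquiv.toEquiv]
      show Nat.card (∀ i, P (eF i)) = _
      rw [Nat.card_pi, Finset.prod_congr rfl fun i _ => hP (eF i), Finset.prod_const, Finset.card_univ,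
        Fintype.card_fin]
    haveI : (EtCoh.stalk σ).PreservesZeroMorphisms := inferInstance
    have hc := Groth.L21.CurveExt.card_of_shortExact (hT.map_of_exact (EtCoh.stalk σ))
    refine Nat.eq_of_mul_eq_mul_left (NeZero.pos n) ?_
    rw [← pow_succ', Nat.sub_add_cancel (hm1 x), ← hstalkP]
    exact (congrArg (· * _) hstalkC.symm).trans hc.symm
  have hQ : Nat.card (EtCoh.H X T.X₃ 0) = n ^ ∑ x ∈ S, (m x - 1) := by
    rw [card_H0_finite_supp f S T.X₃ (fun x => n ^ (m x - 1)) hScl hsupp hstalk, Finset.prod_pow_eq_pow_sum]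
  -- the normalisation
  have hgenY : ∀ y ∈ genericPoints X', ¬ IsClosed ({y} : Set X') := fun y hy hc =>
    not_isClosed_generic hequi (hbij.mapsTo hy) (by
      rw [← Set.image_singleton]
      exact π.isClosedMap _ hc)
  obtain ⟨hY0, hY1⟩ := card_H_normal (k := k) hX' hd' hgenY n hn
  have hcomp : Nat.card (irreducibleComponents (X' : Type u)) = Nat.card (irreducibleComponents (X : Type u)) := by
    rw [← Nat.card_congr (genericPoints.equiv (α := X')), Nat.card_congr (Set.BijOn.equiv _ hbij),
      Nat.card_congr (genericPoints.equiv (α := X))]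
  have hP : ∀ q, Nat.card (EtCoh.H X T.X₂ q) = Nat.card (EtCoh.H X' (EtCoh.const X' (ZMod n)) q) := fun q => by
    rw [show T.X₂ = (EtCoh.push π).obj ((EtCoh.pull π).obj C) from rfl,
      Nat.card_congr (Equiv.ofBijective _ (Groth.L27.EtSite.bijective_HofPush π ((EtCoh.pull π).obj C) (fun r hr =>
        Groth.L27.EtSite.isZero_Rpush_of_propB π (Groth.L27.EtSite.propB_of_isIntegralHom π) _ r hr) q)),
      Nat.card_congr (Groth.L21.CurveKummer.congrH (EtCore.pullConst π (ZMod n)) q).toEquiv]
  have hX0 : Nat.card (EtCoh.H X C 0) = n := by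
    rw [Nat.card_congr (Groth.L27.LimCoh.secEq (EtCoh.const X (ZMod n))).toEquiv,
      ← Nat.card_congr (Equiv.ofBijective _ (Groth.L27.FLC.bijective_cst_top (X := X)
        (M := AddCommGrpCat.of (ULift.{u + 1} (ZMod n)))))]
    exact (Nat.card_congr Equiv.ulift).trans (Nat.card_zmod n)
  haveI : Subsingleton (EtCoh.H X T.X₃ 1) := Groth.L28.CurveCd.subsingleton_H_of_supp_closed f _
    (fun y hy => hScl y (hsupp hy)) 0
  let δ := Groth.L27.LimCoh.δH hT 0
  have hfive := card_five ((EtCoh.HF X 0).map T.f).hom ((EtCoh.HF X 0).map T.g).hom δ ((EtCoh.HF X 1).map T.f).hom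
    ((injective_iff_map_eq_zero _).2 fun a ha => Groth.L21.CurveExt.eq_zero_of_map_f_zero hT a ha)
    (by
      ext z
      refine ⟨fun hz => ?_, ?_⟩
      · obtain ⟨a, ha⟩ := Groth.L21.CurveExt.exists_map_f hT 0 z hz
        exact ⟨a, ha⟩
      · rintro ⟨a, rfl⟩
        exact Groth.L21.CurveExt.map_g_f hT 0 a)
    (by
      ext z
      refine ⟨fun hz => ?_, ?_⟩
      · obtain ⟨a, ha⟩ := Groth.L27.LimCoh.exists_map_of_δH_eq_zero hT 0 z hz
        exact ⟨a, ha⟩
      · rintro ⟨a, rfl⟩
        exact Groth.L27.LimCoh.δH_map_g hT 0 a)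
    (by
      ext z
      refine ⟨fun hz => ?_, ?_⟩
      · obtain ⟨a, ha⟩ := Groth.L27.LimCoh.exists_δH hT 0 z
          hz
        exact ⟨a, ha⟩
      · rintro ⟨a, rfl⟩
        exact Groth.L21.CurveExt.map_δH_f hT 0 a)
    (fun z => by
      obtain ⟨w, hw⟩ := Ext.covariant_sequence_exact₂ _ hT z (Subsingleton.elim (α := EtCoh.H X T.X₃ 1) _ _)
      exact ⟨w, (Groth.L27.EtSite.HF_map_apply T.f 1 w).trans hw⟩)
  change Nat.card (EtCoh.H X C 1) * Nat.card (EtCoh.H X T.X₂ 0) =
    Nat.card (EtCoh.H X T.X₂ 1) * Nat.card (EtCoh.H X T.X₃ 0) * Nat.card (EtCoh.H X C 0) at hfive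
  rw [hP 0, hP 1, hY0, hY1, hQ, hX0, hcomp] at hfive
  refine ⟨2 * Curv2.genus k X' + (∑ x ∈ S, (m x - 1)) + 1, ?_, ?_⟩
  · have hsum : (∑ᶠ x : X, (if IsClosed ({x} : Set X) then (((Brnch.numBranchesAt X x).toNat : ℤ) - 1) else 0)) =
        ((∑ x ∈ S, (m x - 1) : ℕ) : ℤ) := by
      rw [finsum_eq_sum_of_support_subset _ (s := S) ?_, Nat.cast_sum]
      · refine Finset.sum_congr rfl fun x hx => ?_
        rw [if_pos (hScl x hx), hbr, Nat.cast_sub (hm1 x), Nat.cast_one]
      · intro x hx
        by_contra hxS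
        refine hx ?_
        simp only [hbr, show Nat.card {y : X' // π y = x} = 1 from hS1 x hxS]
        simp
    rw [hsum]
    push_cast
    ring
  · obtain ⟨c⟩ := Groth.L21.CurveKummer.nonempty_const_iso_mu f n hn
    rw [card_pic_torsion_eq k X n hn, ← Nat.card_congr (Groth.L21.CurveKummer.congrH c 1).toEquiv, hfive,
      pow_succ, pow_add]

end Groth.L21.CurveTors
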